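import Cfsg.Agent.Lib.ElusiveUnip.Realise
import Cfsg.Agent.Lib.OmegaMem
import Cfsg.Prelude.Def_GeometricClasses

/-!
Elements of order `p` of orthogonal groups and invariant non-degenerate subspaces: conditions on partitions.
-/

set_option autoImplicit false

namespace CfsgLib.ElusiveUnip

open Matrix Module CfsgLib.FiniteForms

variable {F : Type*} [Field F] [Fintype F] {p : ℕ} [Fact p.Prime] [CharP F p]
  {ι : Type} [Fintype ι] [DecidableEq ι]

/-- An element of order `p` of the derived group, of given type. -/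
theorem exists_element (h2 : (2 : F) ≠ 0) (hn : 2 ≤ Fintype.card ι) (Q : QuadraticForm F (ι → F))
    (hQ : (QuadraticMap.polarBilin Q).Nondegenerate) (μ : Multiset ℕ) (hμ : ∀ e ∈ μ, 0 < e ∧ e ≤ p)
    (hev : ∀ e, Even e → Even (μ.count e)) (hsum : μ.sum = Fintype.card ι)
    {j0 : ℕ} (hj0 : j0 ∈ μ) (hodd : Odd j0) {e2 : ℕ} (he2 : e2 ∈ μ) (he2' : 2 ≤ e2) :
    ∃ x : GL ι F, x ∈ Cfsg.Geo.omegaGL ⇑Q ∧ x ^ p = 1 ∧ (∀ z : F, (x : Matrix ι ι F) ≠ z • 1) ∧
      (x : Matrix ι ι F)ᵀ * polarMat ⇑Q * (x : Matrix ι ι F) = polarMat ⇑Q ∧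
      ((x : Matrix ι ι F) - 1) ^ p = 0 ∧
      ∀ j, (((x : Matrix ι ι F) - 1) ^ j).rank = (μ.map fun e => e - j).sum := by
  classical
  have hι : Nonempty ι := Fintype.card_pos_iff.1 (by omega)
  obtain ⟨A, hA, hr⟩ := exists_preserving h2 (polarMat ⇑Q) (polarMat_isSymm _) (polarMat_det_ne_zero hQ) μ
    (fun e he => (hμ e he).1) hj0 hodd hev hsum
  have hN : (A - 1) ^ p = 0 := CfsgLib.JordanForms.eq_zero_of_rank (by
    rw [hr]
    refine Multiset.sum_eq_zero fun y hy => ?_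
    obtain ⟨e, he, rfl⟩ := Multiset.mem_map.1 hy
    exact Nat.sub_eq_zero_of_le (hμ e he).2)
  have hAp : A ^ p = 1 := by
    have h := sub_pow_char_of_commute p (Commute.one_right A)
    rw [hN, one_pow] at h
    exact sub_eq_zero.1 h.symm
  have hp0 : p ≠ 0 := (Fact.out : p.Prime).ne_zero
  let x : GL ι F := ⟨A, A ^ (p - 1), by rw [← pow_succ', Nat.sub_add_cancel (Nat.one_le_iff_ne_zero.2 hp0), hAp],
    by rw [← pow_succ, Nat.sub_add_cancel (Nat.one_le_iff_ne_zero.2 hp0), hAp]⟩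
  have hiso : x ∈ Cfsg.isometryGroup F ⇑Q := fun v _ => by
    refine mul_left_cancel₀ h2 ?_
    show 2 * Q (A *ᵥ v) = 2 * Q v
    rw [two_mul_eq, two_mul_eq]
    conv_rhs => rw [← hA, ← mulVec_mulVec, ← mulVec_mulVec, dotProduct_mulVec v Aᵀ, vecMul_transpose]
  have hxp : x ^ p = 1 := Units.ext (by rw [Units.val_pow_eq_pow_val]; exact hAp)
  refine ⟨x, ⟨⟨x, hiso⟩, ?_, rfl⟩, hxp, ?_, hA, hN, hr⟩
  · have hpodd : Odd p := (Fact.out : p.Prime).odd_of_ne_two fun h => h2 (by
      subst h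
      exact_mod_cast CharP.cast_eq_zero F 2)
    obtain ⟨k, hk⟩ := hpodd
    set g : Cfsg.isometryGroup F ⇑Q := ⟨x, hiso⟩ with hg
    have hgp : g ^ p = 1 := Subtype.ext hxp
    have hsq : g = (g ^ (k + 1)) ^ 2 := by
      rw [← pow_mul, show (k + 1) * 2 = p + 1 by omega, pow_succ, hgp, one_mul]
    rw [SetLike.mem_coe, hsq, CfsgLib.OmegaMem.omega_iff Q h2 hn hQ, map_pow, map_pow]
    exact Prod.ext (Int.units_sq _) (Int.units_sq _)
  · intro z hz
    have hzA : A = z • 1 := hz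
    have hz1 : z = 1 := by
      have h := hAp
      rw [hzA, _root_.smul_pow, one_pow] at h
      have h' := congrFun (congrFun h (Classical.arbitrary ι)) (Classical.arbitrary ι)
      simp at h'
      exact frobenius_inj F p (by rw [frobenius_def, frobenius_def, h', one_pow])
    have h1 := hr 1
    rw [hzA, hz1, one_smul, sub_self, pow_one, Matrix.rank_zero] at h1
    have := Multiset.le_sum_of_mem (Multiset.mem_map_of_mem (fun e => e - 1) he2)
    omega

/-- The information obtained from a fixed subspace for a given type. -/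
theorem fixed_info (h2 : (2 : F) ≠ 0) (hn : 2 ≤ Fintype.card ι) (Q : QuadraticForm F (ι → F))
    (hQ : (QuadraticMap.polarBilin Q).Nondegenerate) (m : ℕ) (Ok : Submodule F (ι → F) → Prop)
    (H : ∀ x : GL ι F, x ∈ Cfsg.Geo.omegaGL ⇑Q → x ^ p = 1 → (∀ z : F, (x : Matrix ι ι F) ≠ z • 1) →
      ∃ W : Submodule F (ι → F), (finrank F ↥W = m ∧ Cfsg.Geo.IsNondegenerateOn (QuadraticMap.polar ⇑Q) W ∧ Ok W) ∧
        W.map (Matrix.toLin' (x : Matrix ι ι F)) ≤ W)
    (μ : Multiset ℕ) (hμ : ∀ e ∈ μ, 0 < e ∧ e ≤ p) (hev : ∀ e, Even e → Even (μ.count e))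
    (hsum : μ.sum = Fintype.card ι) {j0 : ℕ} (hj0 : j0 ∈ μ) (hodd : Odd j0) {e2 : ℕ} (he2 : e2 ∈ μ)
    (he2' : 2 ≤ e2) :
    ∃ (A : Matrix ι ι F) (W : Submodule F (ι → F)) (ν : Multiset ℕ), Ok W ∧ finrank F ↥W = m ∧
      (∀ w ∈ W, A *ᵥ w ∈ W) ∧ Aᵀ * polarMat ⇑Q * A = polarMat ⇑Q ∧
      (∀ j, ((A - 1) ^ j).rank = (μ.map fun e => e - j).sum) ∧
      ν ≤ μ ∧ ν.sum = m ∧ (∀ e, Even e → Even (ν.count e)) ∧
      ∀ j, ν.count (j + 1) + 2 * rr (Matrix.toLinAlgEquiv' (A - 1)) W (j + 1) =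
        rr (Matrix.toLinAlgEquiv' (A - 1)) W j + rr (Matrix.toLinAlgEquiv' (A - 1)) W (j + 2) := by
  obtain ⟨x, hxO, hxp, hns, hA, hN, hr⟩ := exists_element h2 hn Q hQ μ hμ hev hsum hj0 hodd he2 he2'
  obtain ⟨W, ⟨hm, hnd, hok⟩, hinv⟩ := H x hxO hxp hns
  have hinv' : ∀ w ∈ W, (x : Matrix ι ι F) *ᵥ w ∈ W := fun w hw => hinv ⟨w, hw, rfl⟩
  obtain ⟨ν, h1, h2', h3, h4⟩ := exists_sub h2 (polarMat_isSymm _) hA hN μ (fun e he => (hμ e he).1) hr hinv'
    (fun w hw hw0 => by
      obtain ⟨u, hu, hne⟩ := (hnd w hw hw0).1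
      exact ⟨u, hu, by rwa [← polar_eq]⟩)
  exact ⟨_, W, ν, hok, hm, hinv', hA, hr, h1, h2'.trans hm, h3, h4⟩

theorem even_count_add {ν : Multiset ℕ} {a b : ℕ} (hab : a ≠ b) (ha : Odd a) (hb : Odd b)
    (h : ∀ e ∈ ν, Odd e → e = a ∨ e = b) : Even ν.sum ↔ Even (ν.count a + ν.count b) := by
  induction ν using Multiset.induction with
  | empty => simp
  | cons f ν ih =>
    rw [Multiset.sum_cons, Nat.even_add, ih fun g hg => h g (Multiset.mem_cons_of_mem hg)]
    by_cases hf : Odd f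
    · rcases h f (Multiset.mem_cons_self _ _) hf with rfl | rfl
      · rw [Multiset.count_cons_self, Multiset.count_cons_of_ne hab.symm, add_right_comm, Nat.even_add_one]
        simp [Nat.not_even_iff_odd.2 hf]
      · rw [Multiset.count_cons_self, Multiset.count_cons_of_ne hab, ← add_assoc, Nat.even_add_one]
        simp [Nat.not_even_iff_odd.2 hf]
    · rw [Multiset.count_cons_of_ne (fun hh : a = f => hf (hh ▸ ha)),
        Multiset.count_cons_of_ne (fun hh : b = f => hf (hh ▸ hb))]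
      simp [Nat.not_odd_iff_even.1 hf]

/-- Every admissible partition contains an admissible partition of `m`. -/
theorem partition_of_fixed (h2 : (2 : F) ≠ 0) (hn : 2 ≤ Fintype.card ι) (Q : QuadraticForm F (ι → F))
    (hQ : (QuadraticMap.polarBilin Q).Nondegenerate) (m : ℕ) (hme : Even m) (hmn : m ≤ Fintype.card ι)
    (Ok : Submodule F (ι → F) → Prop)
    (H : ∀ x : GL ι F, x ∈ Cfsg.Geo.omegaGL ⇑Q → x ^ p = 1 → (∀ z : F, (x : Matrix ι ι F) ≠ z • 1) →
      ∃ W : Submodule F (ι → F), (finrank F ↥W = m ∧ Cfsg.Geo.IsNondegenerateOn (QuadraticMap.polar ⇑Q) W ∧ Ok W) ∧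
        W.map (Matrix.toLin' (x : Matrix ι ι F)) ≤ W)
    (μ : Multiset ℕ) (hμ : ∀ e ∈ μ, 0 < e ∧ e ≤ p) (hev : ∀ e, Even e → Even (μ.count e))
    (hsum : μ.sum = Fintype.card ι) :
    ∃ ν : Multiset ℕ, ν ≤ μ ∧ ν.sum = m ∧ ∀ e : ℕ, Even e → Even (ν.count e) := by
  classical
  by_cases hone : ∀ e ∈ μ, e = 1
  · have hμ1 : μ = Multiset.replicate μ.card 1 := Multiset.eq_replicate_card.mpr hone
    refine ⟨Multiset.replicate m 1, ?_, by simp, fun e he => ?_⟩
    · have : μ.sum = μ.card := by conv_lhs => rw [hμ1]; simp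
      rw [hμ1]
      exact (Multiset.replicate_le_replicate 1).mpr (by omega)
    · rw [Multiset.count_replicate]
      split_ifs with h
      · exact hme
      · exact Even.zero
  push_neg at hone
  obtain ⟨e, he, he1⟩ := hone
  have he2 : 2 ≤ e := by have := (hμ e he).1; omega
  by_cases hodd : ∃ j ∈ μ, Odd j
  · obtain ⟨j, hj, hjo⟩ := hodd
    obtain ⟨-, -, ν, -, -, -, -, -, h1, h2', h3, -⟩ := fixed_info h2 hn Q hQ m Ok H μ hμ hev hsum hj hjo he he2
    exact ⟨ν, h1, h2', h3⟩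
  -- all parts even: move one unit between two equal parts
  push_neg at hodd
  have hee : Even e := Nat.not_odd_iff_even.1 (hodd e he)
  obtain ⟨μ', rfl⟩ := Multiset.exists_cons_of_mem he
  have hmem : e ∈ μ' := by
    by_contra hne
    have := hev e hee
    rw [Multiset.count_cons_self, Multiset.count_eq_zero.2 hne] at this
    simp at this
  obtain ⟨R, rfl⟩ := Multiset.exists_cons_of_mem hmem
  have hpo : Odd p := (Fact.out : p.Prime).odd_of_ne_two fun h => h2 (by
    subst h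
    exact_mod_cast CharP.cast_eq_zero F 2)
  have hep : e + 1 ≤ p := by
    have := (hμ e (Multiset.mem_cons_self _ _)).2
    rcases hee with ⟨a, ha⟩
    rcases hpo with ⟨b, hb⟩
    omega
  have ho1 : Odd (e - 1) := by rcases hee with ⟨a, ha⟩; exact ⟨a - 1, by omega⟩
  have ho2 : Odd (e + 1) := hee.add_one
  have hRe : ∀ f ∈ R, ¬ Odd f := fun f hf => hodd f (Multiset.mem_cons_of_mem (Multiset.mem_cons_of_mem hf))
  obtain ⟨-, -, ν', -, -, -, -, -, h1, h2', h3, -⟩ := fixed_info h2 hn Q hQ m Ok H ((e - 1) ::ₘ (e + 1) ::ₘ R)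
    (fun f hf => by
      simp only [Multiset.mem_cons] at hf
      rcases hf with rfl | rfl | hf
      · omega
      · omega
      · exact hμ f (Multiset.mem_cons_of_mem (Multiset.mem_cons_of_mem hf)))
    (fun f hf => by
      rw [Multiset.count_cons_of_ne (fun h => by subst h; exact Nat.not_even_iff_odd.2 ho1 hf),
        Multiset.count_cons_of_ne (fun h => by subst h; exact Nat.not_even_iff_odd.2 ho2 hf)]
      have := hev f hf
      simp only [Multiset.count_cons] at this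
      split_ifs at this with h
      · rw [add_assoc] at this; exact (Nat.even_add.1 this).2 (by decide)
      · simpa using this)
    (by
      rw [← hsum]; simp only [Multiset.sum_cons]; omega)
    (Multiset.mem_cons_self _ _) ho1 (e2 := e + 1) (Multiset.mem_cons_of_mem (Multiset.mem_cons_self _ _)) (by omega)
  have hν1 : ∀ f ∈ ν', Odd f → f = e - 1 ∨ f = e + 1 := fun f hf hfo => by
    have := Multiset.mem_of_le h1 hf
    simp only [Multiset.mem_cons] at this
    rcases this with h | h | h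
    · exact Or.inl h
    · exact Or.inr h
    · exact absurd hfo (hRe f h)
  have hpar := (even_count_add (show e - 1 ≠ e + 1 by omega) ho1 ho2 hν1).1 (h2'.symm ▸ hme)
  have hle := Multiset.le_iff_count.1 h1
  have hR0 : ∀ f, Odd f → R.count f = 0 := fun f hf => Multiset.count_eq_zero.2 fun h => hRe f h hf
  have hc1 : ν'.count (e - 1) ≤ 1 := by
    have := hle (e - 1)
    simp only [Multiset.count_cons, hR0 _ ho1, show e - 1 ≠ e + 1 by omega, if_true, if_false] at this
    omega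
  have hc2 : ν'.count (e + 1) ≤ 1 := by
    have := hle (e + 1)
    simp only [Multiset.count_cons, hR0 _ ho2, show e + 1 ≠ e - 1 by omega, if_true, if_false] at this
    omega
  obtain ⟨a, ha⟩ := hpar
  by_cases hboth : ν'.count (e - 1) = 0
  · -- neither of the new parts is used
    refine ⟨ν', ?_, h2', h3⟩
    rw [Multiset.le_iff_count]
    intro f
    by_cases hf : f = e - 1 ∨ f = e + 1
    · rcases hf with rfl | rfl <;> omega
    · push_neg at hf
      have := hle f
      simp only [Multiset.count_cons, hf.1, hf.2, if_false] at this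
      simp only [Multiset.count_cons]
      omega
  · -- both are used
    have hm1 : e - 1 ∈ ν' := Multiset.count_pos.1 (by omega)
    obtain ⟨ν₁, rfl⟩ := Multiset.exists_cons_of_mem hm1
    have hm2 : e + 1 ∈ ν₁ := by
      have h22 : Multiset.count (e + 1) ((e - 1) ::ₘ ν₁) = 1 := by omega
      rw [Multiset.count_cons_of_ne (show e + 1 ≠ e - 1 by omega)] at h22
      exact Multiset.count_pos.1 (by omega)
    obtain ⟨ν₂, rfl⟩ := Multiset.exists_cons_of_mem hm2
    have hν₂ : ν₂ ≤ R := (Multiset.cons_le_cons_iff _).1 ((Multiset.cons_le_cons_iff _).1 h1)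
    refine ⟨e ::ₘ e ::ₘ ν₂, Multiset.cons_le_cons _ (Multiset.cons_le_cons _ hν₂), ?_, fun f hf => ?_⟩
    · rw [← h2']; simp only [Multiset.sum_cons]; omega
    · have := h3 f hf
      rw [Multiset.count_cons_of_ne (fun h => by subst h; exact Nat.not_even_iff_odd.2 ho1 hf),
        Multiset.count_cons_of_ne (fun h => by subst h; exact Nat.not_even_iff_odd.2 ho2 hf)] at this
      simp only [Multiset.count_cons]
      split_ifs
      · rw [add_assoc]; exact this.add (by decide)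
      · simpa using this

theorem count_even_sum (ν : Multiset ℕ) (a b : ℕ) (h : ∀ e ∈ ν, e = 2 ∨ e = a ∨ e = b) (hab : a ≠ b)
    (ha : a ≠ 2) (hb : b ≠ 2) : ν.sum = 2 * ν.count 2 + a * ν.count a + b * ν.count b := by
  induction ν using Multiset.induction with
  | empty => simp
  | cons e ν ih =>
    rw [Multiset.sum_cons, ih fun g hg => h g (Multiset.mem_cons_of_mem hg)]
    simp only [Multiset.count_cons]
    rcases h e (Multiset.mem_cons_self _ _) with rfl | rfl | rfl <;>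
      simp [hab, Ne.symm hab, ha, hb, Ne.symm ha, Ne.symm hb] <;> ring

/-- For a type with all parts equal to two on an invariant subspace, half of it is totally singular. -/
theorem plusType_of_rank (h2 : (2 : F) ≠ 0) (Q : QuadraticForm F (ι → F)) {A : Matrix ι ι F}
    (hA : Aᵀ * polarMat ⇑Q * A = polarMat ⇑Q) (hsq : (A - 1) ^ 2 = 0) {W : Submodule F (ι → F)}
    (hinv : ∀ w ∈ W, A *ᵥ w ∈ W)
    (hr : 2 * rr (Matrix.toLinAlgEquiv' (A - 1)) W 1 = finrank F ↥W) : Cfsg.Geo.IsPlusTypeOn ⇑Q W := by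
  set N := Matrix.toLinAlgEquiv' (A - 1) with hN
  have hNx : ∀ v, N v = A *ᵥ v - v := fun v => by
    rw [hN]
    show (A - 1) *ᵥ v = _
    rw [Matrix.sub_mulVec, Matrix.one_mulVec]
  refine ⟨W.map (N ^ 1), ?_, ?_, hr⟩
  · rintro _ ⟨w, hw, rfl⟩
    rw [pow_one, hNx]; exact W.sub_mem (hinv w hw) hw
  · rintro _ ⟨w, hw, rfl⟩
    rw [pow_one, hNx]
    have hpol : ∀ u v, (A *ᵥ u) ⬝ᵥ (polarMat ⇑Q *ᵥ (A *ᵥ v)) = u ⬝ᵥ (polarMat ⇑Q *ᵥ v) := fun u v => by
      conv_rhs => rw [← hA, ← mulVec_mulVec, ← mulVec_mulVec, dotProduct_mulVec u Aᵀ, vecMul_transpose]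
    have hsym : ∀ u v, u ⬝ᵥ (polarMat ⇑Q *ᵥ v) = v ⬝ᵥ (polarMat ⇑Q *ᵥ u) := fun u v => by
      rw [← polar_eq, ← polar_eq, QuadraticMap.polar_comm]
    have h2A : A *ᵥ (A *ᵥ w) = A *ᵥ w + A *ᵥ w - w := by
      have h := congrArg (fun M : Matrix ι ι F => M *ᵥ w) hsq
      simp only [pow_two, ← mulVec_mulVec, Matrix.sub_mulVec, Matrix.one_mulVec, Matrix.mulVec_sub,
        Matrix.zero_mulVec] at h
      linear_combination (norm := abel) h
    have hk := hpol (A *ᵥ w) w
    rw [h2A] at hk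
    simp only [sub_dotProduct, add_dotProduct, hpol, hsym w (A *ᵥ w)] at hk
    refine mul_left_cancel₀ h2 ?_
    rw [mul_zero, two_mul_eq, Matrix.mulVec_sub, sub_dotProduct, dotProduct_sub, dotProduct_sub, hpol,
      hsym w (A *ᵥ w)]
    linear_combination hk

end CfsgLib.ElusiveUnip
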