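import Cfsg.Agent.Lib.ElusiveUnip.Types
import Cfsg.Agent.Lib.FiniteForms.Quad

/-!
Every admissible Jordan type with an odd part occurs in each orthogonal group in odd characteristic.
-/

set_option autoImplicit false

namespace CfsgLib.ElusiveUnip

open Matrix Module

variable {F : Type*} [Field F]

theorem rank_fromBlocks_diag {m n : Type} [Fintype m] [Fintype n] [DecidableEq m] [DecidableEq n]
    (M : Matrix m m F) (N : Matrix n n F) : (fromBlocks M 0 0 N).rank = M.rank + N.rank := by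
  let e := LinearEquiv.sumArrowLequivProdArrow m n F F
  have h1 : LinearMap.range (fromBlocks M 0 0 N).mulVecLin =
      ((LinearMap.range M.mulVecLin).prod (LinearMap.range N.mulVecLin)).map
        (e.symm : ((m → F) × (n → F)) →ₗ[F] (m ⊕ n → F)) := by
    ext v
    simp only [LinearMap.mem_range, Submodule.mem_map, Submodule.mem_prod]
    constructor
    · rintro ⟨x, rfl⟩
      refine ⟨(M *ᵥ (x ∘ Sum.inl), N *ᵥ (x ∘ Sum.inr)), ⟨⟨_, rfl⟩, ⟨_, rfl⟩⟩, ?_⟩
      funext s
      rw [Matrix.mulVecLin_apply, Matrix.fromBlocks_mulVec]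
      rcases s with s | s <;> simp [e]
    · rintro ⟨⟨a, b⟩, ⟨⟨x, hx⟩, ⟨y, hy⟩⟩, rfl⟩
      have hxa : M *ᵥ x = a := hx
      have hyb : N *ᵥ y = b := hy
      refine ⟨Sum.elim x y, ?_⟩
      funext s
      rw [Matrix.mulVecLin_apply, Matrix.fromBlocks_mulVec, Sum.elim_comp_inl, Sum.elim_comp_inr]
      rcases s with s | s <;> simp [e, hxa, hyb]
  unfold Matrix.rank
  rw [h1, LinearEquiv.finrank_map_eq]
  let ψ : ↥((LinearMap.range M.mulVecLin).prod (LinearMap.range N.mulVecLin)) ≃ₗ[F]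
      ↥(LinearMap.range M.mulVecLin) × ↥(LinearMap.range N.mulVecLin) :=
    { toFun := fun x => (⟨x.1.1, x.2.1⟩, ⟨x.1.2, x.2.2⟩)
      invFun := fun x => ⟨(x.1.1, x.2.1), x.1.2, x.2.2⟩
      map_add' := fun _ _ => rfl
      map_smul' := fun _ _ => rfl
      left_inv := fun _ => rfl
      right_inv := fun _ => rfl }
  rw [ψ.finrank_eq, Module.finrank_prod]

theorem rank_jordanBlock (k j : ℕ) : ((Cfsg.jordanBlock k F - 1) ^ j).rank = k - j := by
  let e : CfsgLib.JordanForms.Idx (fun _ : Fin 1 => k) ≃ Fin k := Equiv.uniqueSigma _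
  have hJ : Matrix.reindex e e (Cfsg.jordanTypeMatrix (fun _ : Fin 1 => k) F) = Cfsg.jordanBlock k F := by
    ext a b
    simp [Matrix.reindex_apply, Cfsg.jordanTypeMatrix, e, blockDiagonal'_apply, Equiv.uniqueSigma]
  rw [CfsgLib.JordanForms.rank_pow_eq_of_isConj (fun _ : Fin 1 => k) e (hJ ▸ IsConj.refl _) j]
  simp

/-- A matrix of given Jordan type, with an odd part, preserving a given symmetric invertible matrix. -/
theorem exists_preserving [Fintype F] (h2 : (2 : F) ≠ 0) {ι : Type} [Fintype ι] [DecidableEq ι]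
    (H : Matrix ι ι F) (hH : H.IsSymm) (hHd : H.det ≠ 0) (μ : Multiset ℕ) (hμ0 : ∀ e ∈ μ, 0 < e)
    {j0 : ℕ} (hj0 : j0 ∈ μ) (hodd : Odd j0) (hev : ∀ e, Even e → Even (μ.count e))
    (hsum : μ.sum = Fintype.card ι) :
    ∃ A : Matrix ι ι F, Aᵀ * H * A = H ∧ ∀ j, ((A - 1) ^ j).rank = (μ.map fun e => e - j).sum := by
  classical
  obtain ⟨μ', rfl⟩ := Multiset.exists_cons_of_mem hj0
  let d : Fin μ'.toList.length → ℕ := fun k => μ'.toList.get k
  have hd : Finset.univ.val.map d = μ' := by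
    rw [Fin.univ_val_map]
    show ((List.ofFn μ'.toList.get : List ℕ) : Multiset ℕ) = μ'
    rw [List.ofFn_get, Multiset.coe_toList]
  have hd1 : ∀ k, 1 ≤ d k := fun k =>
    hμ0 _ (Multiset.mem_cons_of_mem (Multiset.mem_toList.1 (List.get_mem _ _)))
  have hcount : ∀ j, (Finset.univ.filter fun k => d k = j).card = μ'.count j := fun j => by
    conv_rhs => rw [← hd, Multiset.count_map]
    rw [Finset.card_def, Finset.filter_val]
    exact congrArg Multiset.card (Multiset.filter_congr fun k _ => eq_comm)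
  have hsumd : ∀ f : ℕ → ℕ, ∑ k, f (d k) = (μ'.map f).sum := fun f => by
    conv_rhs => rw [← hd, Multiset.map_map]
    rfl
  obtain ⟨B, hB, hBu, hBt⟩ := CfsgLib.JordanForms.exists_symmetric d h2 (fun j hj _ => by
    rw [hcount]
    have := hev j hj
    rwa [Multiset.count_cons_of_ne (fun h => by subst h; exact Nat.not_even_iff_odd.2 hodd hj)] at this) hd1
    (Equiv.refl (CfsgLib.JordanForms.Idx d))
  obtain ⟨S, hS, hSu, hSt⟩ := CfsgLib.JordanForms.exists_block_symmetric h2 j0 hodd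
  rw [one_smul] at hSt
  simp only [Matrix.reindex_refl_refl] at hB
  set J := Cfsg.jordanTypeMatrix d F
  set K := Cfsg.jordanBlock j0 F
  have hc : Fintype.card (CfsgLib.JordanForms.Idx d ⊕ Fin j0) = Fintype.card ι := by
    rw [Fintype.card_sum, Fintype.card_sigma, Fintype.card_fin, ← hsum, Multiset.sum_cons, add_comm]
    simp only [Fintype.card_fin]
    have := hsumd id
    simp only [id_eq, Multiset.map_id'] at this
    rw [this]
  let σ := Fintype.equivOfCardEq hc
  have hd0 : B.det * S.det * H.det ≠ 0 := mul_ne_zero (mul_ne_zero hBu.ne_zero hSu.ne_zero) hHd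
  obtain ⟨c, hc0, hcsq⟩ : ∃ c : F, c ≠ 0 ∧ IsSquare (c ^ j0 * (B.det * S.det * H.det)) := by
    by_cases h : IsSquare (B.det * S.det * H.det)
    · exact ⟨1, one_ne_zero, by rw [one_pow, one_mul]; exact h⟩
    · refine ⟨B.det * S.det * H.det, hd0, ?_⟩
      obtain ⟨k, rfl⟩ := hodd
      exact ⟨(B.det * S.det * H.det) ^ (k + 1), by ring⟩
  set G := Matrix.reindex σ σ (fromBlocks B 0 0 (c • S)) with hG
  set A' := Matrix.reindex σ σ (fromBlocks J 0 0 K) with hA'
  have hGs : G.IsSymm := by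
    unfold Matrix.IsSymm
    rw [hG, Matrix.reindex_apply, Matrix.transpose_submatrix, fromBlocks_transpose, transpose_zero,
      transpose_zero, transpose_smul, hSt, hBt]
  have hGd : G.det = B.det * (c ^ j0 * S.det) := by
    rw [hG, det_reindex_self, det_fromBlocks_zero₂₁, det_smul, Fintype.card_fin]
  have hGd0 : G.det ≠ 0 := by
    rw [hGd]; exact mul_ne_zero hBu.ne_zero (mul_ne_zero (pow_ne_zero _ hc0) hSu.ne_zero)
  have hpres : A'ᵀ * G * A' = G := by
    simp only [hA', hG, Matrix.reindex_apply, Matrix.transpose_submatrix, Matrix.submatrix_mul_equiv,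
      fromBlocks_transpose, transpose_zero, fromBlocks_multiply, Matrix.zero_mul, Matrix.mul_zero, add_zero,
      zero_add, Matrix.mul_smul, Matrix.smul_mul, smul_zero]
    rw [hB, hS]
  obtain ⟨P, hP, hPG⟩ := (CfsgLib.FiniteForms.congr_iff h2 hGs hH hGd0 hHd).2 (by
    rw [hGd, show B.det * (c ^ j0 * S.det) * H.det = c ^ j0 * (B.det * S.det * H.det) by ring]
    exact hcsq)
  have hPu : IsUnit P.det := isUnit_iff_ne_zero.2 hP
  refine ⟨P⁻¹ * A' * P, ?_, fun j => ?_⟩
  · have hc1 : P * P⁻¹ = 1 := mul_nonsing_inv _ hPu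
    have hc2 : P⁻¹ᵀ * Pᵀ = 1 := by rw [← transpose_mul, hc1, transpose_one]
    calc (P⁻¹ * A' * P)ᵀ * H * (P⁻¹ * A' * P)
        = Pᵀ * A'ᵀ * (P⁻¹ᵀ * Pᵀ) * G * (P * P⁻¹) * A' * P := by
          rw [← hPG]; simp only [transpose_mul, Matrix.mul_assoc]
      _ = Pᵀ * (A'ᵀ * G * A') * P := by rw [hc1, hc2]; simp only [Matrix.mul_one, Matrix.mul_assoc]
      _ = H := by rw [hpres, hPG]
  · have e1 : (P⁻¹ * A' * P - 1) ^ j = P⁻¹ * (A' - 1) ^ j * P := by
      have h1 : P⁻¹ * A' * P - 1 = P⁻¹ * (A' - 1) * P := by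
        rw [Matrix.mul_sub, Matrix.sub_mul, Matrix.mul_one, nonsing_inv_mul _ hPu]
      rw [h1]
      induction j with
      | zero => rw [pow_zero, pow_zero, Matrix.mul_one, nonsing_inv_mul _ hPu]
      | succ j ih =>
        rw [pow_succ, ih, pow_succ]
        simp only [Matrix.mul_assoc]
        rw [← Matrix.mul_assoc P, mul_nonsing_inv _ hPu, Matrix.one_mul]
    rw [e1, rank_mul_eq_left_of_isUnit_det _ _ hPu,
      rank_mul_eq_right_of_isUnit_det _ _ (isUnit_nonsing_inv_det _ hPu)]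
    have e2 : (A' - 1) ^ j = Matrix.reindex σ σ (fromBlocks ((J - 1) ^ j) 0 0 ((K - 1) ^ j)) := by
      rw [← fromBlocks_diagonal_pow, hA', ← Matrix.reindexAlgEquiv_apply F F, ← Matrix.reindexAlgEquiv_apply F F]
      rw [map_pow, show fromBlocks (J - 1) 0 0 (K - 1) = fromBlocks J 0 0 K - 1 by
        rw [← fromBlocks_one, sub_eq_add_neg, sub_eq_add_neg, sub_eq_add_neg, fromBlocks_neg, fromBlocks_add]
        simp, map_sub, map_one]
    rw [e2, rank_reindex, rank_fromBlocks_diag, CfsgLib.JordanForms.rank_type_pow, rank_jordanBlock,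
      Multiset.map_cons, Multiset.sum_cons, hsumd fun e => e - j, add_comm]

end CfsgLib.ElusiveUnip
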