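import Cfsg.Agent.Lib.JordanForms.Apply

/-!
Jordan types of the restriction of a unipotent orthogonal matrix to a non-degenerate invariant subspace.
-/

set_option autoImplicit false

namespace CfsgLib.ElusiveUnip

open Matrix Module

variable {F : Type*} [Field F] {ι : Type} [Fintype ι] [DecidableEq ι]

/-- The dimension of the image of a subspace under a power of an endomorphism. -/
noncomputable def rr (N : Module.End F (ι → F)) (W : Submodule F (ι → F)) (j : ℕ) : ℕ :=
  finrank F (W.map (N ^ j))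

variable {N : Module.End F (ι → F)} {W U : Submodule F (ι → F)}

theorem rr_zero : rr N W 0 = finrank F W := by
  unfold rr
  rw [pow_zero, Module.End.one_eq_id, Submodule.map_id]

theorem rr_of_pow_eq_zero {j : ℕ} (h : N ^ j = 0) (k : ℕ) (hk : j ≤ k) : rr N W k = 0 := by
  unfold rr
  rw [pow_eq_zero_of_le hk h, Submodule.map_zero, finrank_bot]

theorem map_pow_succ (j : ℕ) : W.map (N ^ (j + 1)) = (W.map (N ^ j)).map N := by
  rw [pow_succ', Module.End.mul_eq_comp, Submodule.map_comp]

theorem map_pow_le (h : W.map N ≤ W) : ∀ j : ℕ, W.map (N ^ (j + 1)) ≤ W.map (N ^ j) := fun j => by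
  rw [pow_succ, Module.End.mul_eq_comp, Submodule.map_comp]
  exact Submodule.map_mono h

theorem finrank_map_add (N : Module.End F (ι → F)) (U : Submodule F (ι → F)) :
    finrank F (U.map N) + finrank F ↥(U ⊓ LinearMap.ker N) = finrank F U := by
  have h := (N.domRestrict U).finrank_range_add_finrank_ker
  rw [LinearMap.range_domRestrict, LinearMap.ker_domRestrict] at h
  rw [← Submodule.map_comap_subtype, Submodule.finrank_map_subtype_eq]
  exact h

theorem rr_convex (h : W.map N ≤ W) (j : ℕ) : 2 * rr N W (j + 1) ≤ rr N W j + rr N W (j + 2) := by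
  have h1 := finrank_map_add N (W.map (N ^ j))
  have h2 := finrank_map_add N (W.map (N ^ (j + 1)))
  rw [← map_pow_succ] at h1 h2
  have h3 : finrank F ↥(W.map (N ^ (j + 1)) ⊓ LinearMap.ker N) ≤
      finrank F ↥(W.map (N ^ j) ⊓ LinearMap.ker N) :=
    Submodule.finrank_mono (inf_le_inf_right _ (map_pow_le h j))
  have e : finrank F ↥(W.map (N ^ (j + 1 + 1))) = rr N W (j + 2) := rfl
  rw [e] at h2
  simp only [rr] at *
  omega

theorem map_pow_le_self (h : W.map N ≤ W) : ∀ j : ℕ, W.map (N ^ j) ≤ W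
  | 0 => by rw [pow_zero, Module.End.one_eq_id, Submodule.map_id]
  | j + 1 => (map_pow_le h j).trans (map_pow_le_self h j)

theorem rr_add (hc : IsCompl W U) (hW : W.map N ≤ W) (hU : U.map N ≤ U) (j : ℕ) :
    rr N W j + rr N U j = rr N ⊤ j := by
  unfold rr
  rw [← hc.sup_eq_top, Submodule.map_sup, ← Submodule.finrank_sup_add_finrank_inf_eq,
    (hc.disjoint.mono (map_pow_le_self hW j) (map_pow_le_self hU j)).eq_bot, finrank_bot, add_zero]

theorem rr_top (A : Matrix ι ι F) (j : ℕ) :
    rr (Matrix.toLinAlgEquiv' (A - 1)) ⊤ j = ((A - 1) ^ j).rank := by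
  unfold rr
  rw [Submodule.map_top, ← map_pow]
  rfl

/-- The number of parts of a given size from the dimensions of the images. -/
theorem count_eq (μ : Multiset ℕ) (j : ℕ) :
    μ.count (j + 1) + 2 * (μ.map fun e => e - (j + 1)).sum =
      (μ.map fun e => e - j).sum + (μ.map fun e => e - (j + 2)).sum := by
  induction μ using Multiset.induction with
  | empty => simp
  | cons a μ ih =>
    simp only [Multiset.map_cons, Multiset.sum_cons, Multiset.count_cons]
    split_ifs with h <;> omega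

/-- Parity of the dimensions of odd images on a non-degenerate invariant subspace. -/
theorem rr_even (h2 : (2 : F) ≠ 0) {A G : Matrix ι ι F} (hsym : Gᵀ = G) (hG : Aᵀ * G * A = G)
    (hinv : ∀ w ∈ W, A *ᵥ w ∈ W) (hnd : ∀ w ∈ W, w ≠ 0 → ∃ u ∈ W, u ⬝ᵥ (G *ᵥ w) ≠ 0) {P : ℕ}
    (hP : (A - 1) ^ P = 0) (i : ℕ) : Even (rr (Matrix.toLinAlgEquiv' (A - 1)) W (2 * i + 1)) := by
  classical
  set N := Matrix.toLinAlgEquiv' (A - 1) with hN
  let x : Module.End F (ι → F) := Matrix.toLinAlgEquiv' A
  have hNx : ∀ v, N v = A *ᵥ v - v := fun v => by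
    rw [hN]
    show (A - 1) *ᵥ v = _
    rw [Matrix.sub_mulVec, Matrix.one_mulVec]
  have hNW : ∀ w ∈ W, N w ∈ W := fun w hw => by
    rw [hNx]; exact W.sub_mem (hinv w hw) hw
  let xW : Module.End F W := x.restrict hinv
  let b := Module.finBasis F W
  let Bf : LinearMap.BilinForm F W := (Matrix.toBilin' G).restrict W
  have hBf : ∀ u v : W, Bf u v = (u : ι → F) ⬝ᵥ (G *ᵥ (v : ι → F)) := fun u v => Matrix.toBilin'_apply' G _ _
  set GW := LinearMap.BilinForm.toMatrix b Bf with hGW
  set AW := LinearMap.toMatrix b b xW with hAW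
  have hsymW : GWᵀ = GW := by
    ext a c
    rw [Matrix.transpose_apply, hGW, LinearMap.BilinForm.toMatrix_apply, LinearMap.BilinForm.toMatrix_apply,
      hBf, hBf, dotProduct_mulVec, ← mulVec_transpose, hsym, dotProduct_comm]
  have hcomp : Bf.comp xW xW = Bf := by
    refine LinearMap.BilinForm.ext fun u v => ?_
    rw [LinearMap.BilinForm.comp_apply, hBf, hBf]
    show (A *ᵥ (u : ι → F)) ⬝ᵥ (G *ᵥ (A *ᵥ (v : ι → F))) = _
    conv_rhs => rw [← hG, ← mulVec_mulVec, ← mulVec_mulVec, dotProduct_mulVec (u : ι → F) Aᵀ, vecMul_transpose]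
  have hGW' : AWᵀ * GW * AW = GW := by
    have := LinearMap.BilinForm.toMatrix_comp b b Bf xW xW
    rw [hcomp] at this
    exact this.symm
  have hGd : IsUnit GW.det := by
    rw [isUnit_iff_ne_zero]
    intro h0
    obtain ⟨c, hc, hc0⟩ := Matrix.exists_mulVec_eq_zero_iff.2 h0
    let w : W := ∑ a, c a • b a
    have hw0 : w ≠ 0 := fun h => hc <| funext fun a => by
      have := Fintype.linearIndependent_iff.1 b.linearIndependent c h a
      simpa using this
    obtain ⟨u, hu, hne⟩ := hnd w w.2 (fun h => hw0 (Subtype.ext h))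
    apply hne
    rw [show u ⬝ᵥ (G *ᵥ (w : ι → F)) = Bf ⟨u, hu⟩ w from (hBf ⟨u, hu⟩ w).symm]
    have hb : ∀ a, Bf (b a) w = 0 := fun a => by
      have := congrFun hc0 a
      rw [hGW] at this
      simpa [Matrix.mulVec, dotProduct, LinearMap.BilinForm.toMatrix_apply, w, map_sum, mul_comm] using this
    have e := b.sum_repr ⟨u, hu⟩
    rw [← e, LinearMap.BilinForm.sum_left]
    exact Finset.sum_eq_zero fun a _ => by rw [map_smul, LinearMap.smul_apply, hb, smul_zero]
  have hAWd : IsUnit AW.det := by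
    have h := congrArg Matrix.det hGW'
    rw [det_mul, det_mul, det_transpose] at h
    refine IsUnit.of_mul_eq_one AW.det (mul_right_cancel₀ hGd.ne_zero ?_)
    rw [one_mul]; linear_combination h
  have hpow : ∀ j : ℕ, (AW - 1) ^ j = LinearMap.toMatrix b b ((N.restrict hNW : Module.End F W) ^ j) := fun j => by
    have e1 : AW - 1 = LinearMap.toMatrixAlgEquiv b (N.restrict hNW : Module.End F W) := by
      have e2 : (N.restrict hNW : Module.End F W) = xW - 1 := by
        refine LinearMap.ext fun v => Subtype.ext ?_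
        show N (v : ι → F) = A *ᵥ (v : ι → F) - (v : ι → F)
        exact hNx _
      rw [e2, hAW]
      refine Eq.trans ?_ (map_sub (LinearMap.toMatrixAlgEquiv b) xW 1).symm
      rw [map_one]
      rfl
    rw [e1, ← map_pow]
    rfl
  have hnil : IsNilpotent (AW - 1) := by
    refine ⟨P, ?_⟩
    rw [hpow]
    have : (N.restrict hNW : Module.End F W) ^ P = 0 := by
      rw [Module.End.pow_restrict]
      refine LinearMap.ext fun v => Subtype.ext ?_
      show (N ^ P) (v : ι → F) = 0
      rw [hN, ← map_pow, hP, map_zero]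
      rfl
    rw [this, map_zero]
  have h := CfsgLib.JordanForms.even_rank_pow_two_mul_add_one h2 hGd hsymW (mul_nonsing_inv _ hAWd) hGW' hnil i
  rw [hpow, Matrix.rank_eq_finrank_range_toLin _ b b, Matrix.toLin_toMatrix, Module.End.pow_restrict,
    ← Submodule.finrank_map_subtype_eq] at h
  refine (congrArg Even ?_).mpr h
  unfold rr
  refine congrArg (fun S : Submodule F (ι → F) => finrank F S) ?_
  ext v
  simp only [Submodule.mem_map, LinearMap.mem_range]
  constructor
  · rintro ⟨w, hw, rfl⟩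
    exact ⟨_, ⟨⟨w, hw⟩, rfl⟩, rfl⟩
  · rintro ⟨_, ⟨w, rfl⟩, rfl⟩
    exact ⟨w, w.2, rfl⟩

/-- An invariant non-degenerate subspace gives a part of the Jordan type. -/
theorem exists_sub (h2 : (2 : F) ≠ 0) {A G : Matrix ι ι F} (hsym : Gᵀ = G)
    (hG : Aᵀ * G * A = G) {P : ℕ} (hP : (A - 1) ^ P = 0) (μ : Multiset ℕ) (hμ0 : ∀ e ∈ μ, 0 < e)
    (hμ : ∀ j, ((A - 1) ^ j).rank = (μ.map fun e => e - j).sum)
    (hinv : ∀ w ∈ W, A *ᵥ w ∈ W) (hnd : ∀ w ∈ W, w ≠ 0 → ∃ u ∈ W, u ⬝ᵥ (G *ᵥ w) ≠ 0) :
    ∃ ν : Multiset ℕ, ν ≤ μ ∧ ν.sum = finrank F W ∧ (∀ e, Even e → Even (ν.count e)) ∧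
      ∀ j, ν.count (j + 1) + 2 * rr (Matrix.toLinAlgEquiv' (A - 1)) W (j + 1) =
        rr (Matrix.toLinAlgEquiv' (A - 1)) W j + rr (Matrix.toLinAlgEquiv' (A - 1)) W (j + 2) := by
  classical
  set N := Matrix.toLinAlgEquiv' (A - 1) with hN
  have hNx : ∀ v, N v = A *ᵥ v - v := fun v => by
    rw [hN]
    show (A - 1) *ᵥ v = _
    rw [Matrix.sub_mulVec, Matrix.one_mulVec]
  have hWN : W.map N ≤ W := by
    rintro _ ⟨w, hw, rfl⟩
    rw [hNx]; exact W.sub_mem (hinv w hw) hw
  let Bg : LinearMap.BilinForm F (ι → F) := Matrix.toBilin' G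
  have hBg : ∀ u v, Bg u v = u ⬝ᵥ (G *ᵥ v) := fun u v => Matrix.toBilin'_apply' G u v
  have hsymB : ∀ u v, Bg u v = Bg v u := fun u v => by
    rw [hBg, hBg, dotProduct_mulVec, ← mulVec_transpose, hsym, dotProduct_comm]
  have hpres : ∀ u v, Bg (A *ᵥ u) (A *ᵥ v) = Bg u v := fun u v => by
    rw [hBg, hBg]
    conv_rhs => rw [← hG, ← mulVec_mulVec, ← mulVec_mulVec, dotProduct_mulVec u Aᵀ, vecMul_transpose]
  have hcl : IsCompl W (Bg.orthogonal W) := by
    refine LinearMap.BilinForm.isCompl_orthogonal_of_restrict_nondegenerate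
      (fun u v h => by rw [hsymB]; exact h) ⟨fun v hv => ?_, fun v hv => ?_⟩
    · by_contra hv0
      obtain ⟨u, hu, hne⟩ := hnd v v.2 (fun h => hv0 (Subtype.ext h))
      exact hne ((hBg u v).symm.trans ((hsymB u v).trans (hv ⟨u, hu⟩)))
    · by_contra hv0
      obtain ⟨u, hu, hne⟩ := hnd v v.2 (fun h => hv0 (Subtype.ext h))
      exact hne ((hBg u v).symm.trans (hv ⟨u, hu⟩))
  have hsurj : W.map (Matrix.toLinAlgEquiv' A : Module.End F (ι → F)) = W := by
    have hle : W.map (Matrix.toLinAlgEquiv' A : Module.End F (ι → F)) ≤ W := by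
      rintro _ ⟨w, hw, rfl⟩
      exact hinv w hw
    refine Submodule.eq_of_le_of_finrank_eq hle (le_antisymm (Submodule.finrank_mono hle) ?_)
    have hinj : Function.Injective (Matrix.toLinAlgEquiv' A : Module.End F (ι → F)) := by
      have hu : IsUnit A := by
        have := (IsNilpotent.isUnit_one_add (⟨P, hP⟩ : IsNilpotent (A - 1)))
        rwa [add_sub_cancel] at this
      intro u v huv
      exact (Matrix.mulVec_injective_iff_isUnit.2 hu) huv
    exact (LinearEquiv.finrank_eq (Submodule.equivMapOfInjective _ hinj W)).le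
  set U := Bg.orthogonal W with hU
  have hUN : U.map N ≤ U := by
    rintro _ ⟨u, hu, rfl⟩
    rw [hNx]
    refine U.sub_mem ?_ hu
    intro w hw
    rw [← hsurj] at hw
    obtain ⟨w', hw', rfl⟩ := hw
    show Bg (A *ᵥ w') (A *ᵥ u) = 0
    rw [hpres]
    exact hu w' hw'
  have hP' : N ^ P = 0 := by rw [hN, ← map_pow, hP, map_zero]
  let c : ℕ → ℕ := fun j => rr N W j + rr N W (j + 2) - 2 * rr N W (j + 1)
  have hc : ∀ j, c j + 2 * rr N W (j + 1) = rr N W j + rr N W (j + 2) := fun j => by
    have := rr_convex hWN j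
    simp only [c]; omega
  have hc0 : ∀ j, P ≤ j → c j = 0 := fun j hj => by
    simp only [c, rr_of_pow_eq_zero hP' j hj, rr_of_pow_eq_zero hP' (j + 2) (by omega)]
    omega
  let ν : Multiset ℕ := ∑ j ∈ Finset.range P, Multiset.replicate (c j) (j + 1)
  have hν0 : ν.count 0 = 0 := by
    simp only [ν, Multiset.count_sum', Multiset.count_replicate]
    exact Finset.sum_eq_zero fun j _ => if_neg (by omega)
  have hν : ∀ j, ν.count (j + 1) = c j := fun j => by
    simp only [ν, Multiset.count_sum', Multiset.count_replicate]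
    rw [Finset.sum_eq_single j (fun k _ hk => if_neg (by omega)) (fun hj => by
      rw [if_pos rfl, hc0 j (by simpa using hj)]), if_pos rfl]
  have hsum : ∀ n, rr N W 0 + n * rr N W (n + 1) =
      (∑ j ∈ Finset.range n, Multiset.replicate (c j) (j + 1)).sum + (n + 1) * rr N W n := by
    intro n
    induction n with
    | zero => simp
    | succ n ih =>
      rw [Finset.sum_range_succ, Multiset.sum_add, Multiset.sum_replicate, smul_eq_mul]
      have h' := congrArg (fun z => (n + 1) * z) (hc n)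
      nlinarith [ih, h']
  refine ⟨ν, ?_, ?_, ?_, fun j => by rw [hν]; exact hc j⟩
  · rw [Multiset.le_iff_count]
    rintro (_ | j)
    · rw [hν0]; exact Nat.zero_le _
    · rw [hν]
      have h1 := count_eq μ j
      rw [← hμ, ← hμ, ← hμ, ← rr_top, ← rr_top, ← rr_top, ← hN, ← rr_add hcl hWN hUN j,
        ← rr_add hcl hWN hUN (j + 1), ← rr_add hcl hWN hUN (j + 2)] at h1
      have h2' := hc j
      have h3 := rr_convex hUN j
      omega
  · have := hsum P
    rw [rr_of_pow_eq_zero hP' P le_rfl, rr_of_pow_eq_zero hP' (P + 1) (by omega), mul_zero, mul_zero,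
      add_zero, add_zero, rr_zero] at this
    exact this.symm
  · intro e he
    cases e with
    | zero => rw [hν0]; exact Even.zero
    | succ j =>
      obtain ⟨i, rfl⟩ : ∃ i, j = 2 * i + 1 := by obtain ⟨k, hk⟩ := he; exact ⟨k - 1, by omega⟩
      rw [hν]
      obtain ⟨a, ha⟩ := rr_even h2 hsym hG hinv hnd hP i
      obtain ⟨b, hb⟩ := rr_even h2 hsym hG hinv hnd hP (i + 1)
      have := hc (2 * i + 1)
      rw [show 2 * (i + 1) + 1 = 2 * i + 1 + 2 by ring] at hb
      exact ⟨c (2 * i + 1) / 2, by rw [← hN] at ha hb; omega⟩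

end CfsgLib.ElusiveUnip
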